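import Groth.Agent.AlgSpLib.Sep
import Groth.Prelude

/-!
# Fixed points of finite groups acting on smooth separated schemes
-/

set_option autoImplicit false
set_option linter.style.haveILetI false
set_option backward.isDefEq.respectTransparency false
set_option maxHeartbeats 1000000

universe u v

open CategoryTheory CategoryTheory.Limits AlgebraicGeometry

noncomputable section

namespace FinFixLib

section Closed

variable {S : Scheme.{u}} {X : Over S}

/-- The common fixed locus of finitely many endomorphisms of a separated scheme. -/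
theorem exists_fixed_closed [IsSeparated X.hom] [LocallyOfFiniteType X.hom] {G : Type v} (σ : G → (X ⟶ X))
    (s : Finset G) :
    ∃ (Z : Over S) (j : Z ⟶ X), IsClosedImmersion j.left ∧ LocallyOfFinitePresentation j.left ∧
      ∀ (T : Over S) (t : T ⟶ X), (∀ g ∈ s, t ≫ σ g = t) ↔ ∃ l : T ⟶ Z, l ≫ j = t := by
  classical
  induction s using Finset.induction with
  | empty => exact ⟨X, 𝟙 X, inferInstanceAs (IsClosedImmersion (𝟙 _)),
      inferInstanceAs (LocallyOfFinitePresentation (𝟙 _)),
      fun T t => ⟨fun _ => ⟨t, Category.comp_id t⟩, fun _ g hg => absurd hg (Finset.notMem_empty g)⟩⟩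
  | @insert a s _ ih =>
    obtain ⟨Z, j, hjc, hjp, hj⟩ := ih
    let m : Z.left ⟶ pullback X.hom X.hom := pullback.lift j.left (j ≫ σ a).left ((Over.w j).trans (Over.w (j ≫ σ a)).symm)
    let Z' : Over S := Over.mk (pullback.fst m (pullback.diagonal X.hom) ≫ Z.hom)
    let i : Z' ⟶ Z := Over.homMk (pullback.fst m (pullback.diagonal X.hom)) rfl
    haveI : IsClosedImmersion i.left := MorphismProperty.pullback_fst (P := @IsClosedImmersion) _ _ inferInstance
    haveI : LocallyOfFinitePresentation i.left := MorphismProperty.pullback_fst (P := @LocallyOfFinitePresentation) _ _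
      (AlgSpLib.lfp_diagonal X.hom)
    refine ⟨Z', i ≫ j, ?_, ?_, fun T t => ⟨fun h => ?_, ?_⟩⟩
    · rw [Over.comp_left]; infer_instance
    · rw [Over.comp_left]; infer_instance
    · obtain ⟨l, rfl⟩ := (hj T t).1 fun g hg => h g (Finset.mem_insert_of_mem hg)
      have ha := congrArg (fun φ : T ⟶ X => φ.left) (h a (Finset.mem_insert_self a s))
      have hl : l.left ≫ m = (l ≫ j).left ≫ pullback.diagonal X.hom := by
        refine pullback.hom_ext ?_ ?_
        · simp only [m, Category.assoc, pullback.lift_fst, pullback.diagonal_fst, Category.comp_id, Over.comp_left]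
        · simp only [m, Category.assoc, pullback.lift_snd, pullback.diagonal_snd, Category.comp_id]
          simpa only [Over.comp_left, Category.assoc] using ha
      refine ⟨Over.homMk (pullback.lift l.left (l ≫ j).left hl) ?_, Over.OverMorphism.ext ?_⟩
      · show pullback.lift _ _ _ ≫ pullback.fst _ _ ≫ Z.hom = T.hom
        rw [pullback.lift_fst_assoc, Over.w l]
      · show pullback.lift _ _ _ ≫ (i ≫ j).left = _
        show pullback.lift _ _ _ ≫ pullback.fst _ _ ≫ j.left = _
        exact pullback.lift_fst_assoc _ _ _ _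
    · rintro ⟨l, rfl⟩ g hg
      rcases Finset.mem_insert.1 hg with rfl | hg
      · have h := pullback.condition (f := m) (g := pullback.diagonal X.hom)
        have h1 := congrArg (· ≫ pullback.fst X.hom X.hom) h
        have h2 := congrArg (· ≫ pullback.snd X.hom X.hom) h
        simp only [m, Category.assoc, pullback.lift_fst, pullback.lift_snd, pullback.diagonal_fst,
          pullback.diagonal_snd, Category.comp_id] at h1 h2
        have hij : (i ≫ j) ≫ σ g = i ≫ j := by
          refine Over.OverMorphism.ext ?_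
          simp only [Over.comp_left, Category.assoc] at h1 h2 ⊢
          exact h2.trans h1.symm
        rw [Category.assoc, hij]
      · rw [← Category.assoc]
        exact (hj T _).2 ⟨_, rfl⟩ g hg

end Closed

section Average

variable {R A C : Type u} [CommRing R] [CommRing A] [CommRing C] [Algebra R A] [Algebra R C]

/-- Families which are congruent modulo an ideal. -/
def congr (R : Type u) [CommRing R] {C : Type u} [CommRing C] [Algebra R C] (I : Ideal C) (J : Type u) :
    Subalgebra R (J → C) where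
  carrier := {c | ∀ i j, c i - c j ∈ I}
  mul_mem' {c d} hc hd i j := by
    have : c i * d i - c j * d j = (c i - c j) * d i + c j * (d i - d j) := by ring
    show c i * d i - c j * d j ∈ I
    rw [this]
    exact add_mem (I.mul_mem_right _ (hc i j)) (I.mul_mem_left _ (hd i j))
  add_mem' {c d} hc hd i j := by
    show c i + d i - (c j + d j) ∈ I
    rw [show c i + d i - (c j + d j) = (c i - c j) + (d i - d j) by ring]
    exact add_mem (hc i j) (hd i j)
  algebraMap_mem' r i j := by simp

variable {I : Ideal C} {J : Type u} [Fintype J]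

theorem sum_sub_mem (w : C) (hw : w * (Fintype.card J : C) = 1) (c : congr R I J) (i : J) :
    w * ∑ j, c.1 j - c.1 i ∈ I := by
  have : w * ∑ j, c.1 j - c.1 i = w * ∑ j, (c.1 j - c.1 i) := by
    rw [Finset.sum_sub_distrib, Finset.sum_const, Finset.card_univ, nsmul_eq_mul, mul_sub,
      ← mul_assoc, hw, one_mul]
  rw [this]
  exact I.mul_mem_left _ (Ideal.sum_mem _ fun j _ => c.2 j i)

/-- The average. -/
def avg (hI : I ^ 2 = ⊥) (w : C) (hw : w * (Fintype.card J : C) = 1) : congr R I J →ₐ[R] C :=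
  AlgHom.ofLinearMap
    { toFun := fun c => w * ∑ j, c.1 j
      map_add' := fun c d => by simp [Finset.sum_add_distrib, mul_add]
      map_smul' := fun r c => by simp [Finset.mul_sum, Algebra.smul_def, mul_left_comm] }
    (by simp [hw]) (fun c d => by
      show w * ∑ j, c.1 j * d.1 j = (w * ∑ j, c.1 j) * (w * ∑ j, d.1 j)
      set x := w * ∑ j, c.1 j with hx
      set y := w * ∑ j, d.1 j with hy
      have h0 : ∀ j, (c.1 j - x) * (d.1 j - y) = 0 := fun j => by
        rw [← Submodule.mem_bot C, ← hI, pow_two]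
        refine Ideal.mul_mem_mul ?_ ?_
        · rw [← neg_sub]; exact neg_mem (sum_sub_mem w hw c j)
        · rw [← neg_sub]; exact neg_mem (sum_sub_mem w hw d j)
      have hj : ∀ j, c.1 j * d.1 j = c.1 j * y + x * d.1 j - x * y := fun j => by
        linear_combination h0 j
      simp only [hj, Finset.sum_sub_distrib, Finset.sum_add_distrib, ← Finset.sum_mul, ← Finset.mul_sum,
        Finset.sum_const, Finset.card_univ, nsmul_eq_mul]
      linear_combination y * hx.symm + x * hy.symm - x * y * hw)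

/-- Permutation of the components. -/
def permute (s : Equiv.Perm J) : congr R I J →ₐ[R] congr R I J :=
  ((AlgHom.pi fun i => (Pi.evalAlgHom R (fun _ : J => C) (s i))).comp (congr R I J).val).codRestrict _
    fun c i j => c.2 (s i) (s j)

theorem avg_permute (hI : I ^ 2 = ⊥) (w : C) (hw : w * (Fintype.card J : C) = 1) (s : Equiv.Perm J) :
    (avg hI w hw).comp (permute (R := R) s) = avg hI w hw :=
  AlgHom.ext fun c => congrArg (w * ·) (Equiv.sum_comp s c.1)

end Average

/-- Morphisms to a separated scheme which agree after an injective map of rings agree. -/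
theorem ext_of_injective {X S : Scheme.{u}} (f : X ⟶ S) [IsSeparated f] {D D' : CommRingCat.{u}} (φ : D ⟶ D')
    (hφ : Function.Injective φ.hom) (Y Y' : Spec D ⟶ X) (hS : Y ≫ f = Y' ≫ f)
    (h : Spec.map φ ≫ Y = Spec.map φ ≫ Y') : Y = Y' := by
  let m : Spec D ⟶ pullback f f := pullback.lift Y Y' hS
  obtain ⟨I, e, he⟩ := IsClosedImmersion.Spec_iff.1
    (inferInstance : IsClosedImmersion (pullback.snd (pullback.diagonal f) m))
  let ψ := Spec.map φ
  have hψ : (ψ ≫ Y) ≫ pullback.diagonal f = ψ ≫ m := by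
    refine pullback.hom_ext ?_ ?_
    · rw [Category.assoc, pullback.diagonal_fst, Category.comp_id, Category.assoc, pullback.lift_fst]
    · rw [Category.assoc, pullback.diagonal_snd, Category.comp_id, Category.assoc, pullback.lift_snd, h]
  have hfac : ψ = (pullback.lift (ψ ≫ Y) ψ hψ ≫ e.hom) ≫ Spec.map (CommRingCat.ofHom (Ideal.Quotient.mk I)) := by
    rw [Category.assoc, ← he, pullback.lift_snd]
  have hI : I = ⊥ := by
    refine (Submodule.eq_bot_iff _).2 fun d hd => hφ ?_
    rw [map_zero]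
    have h' : φ = CommRingCat.ofHom (Ideal.Quotient.mk I) ≫
        Spec.preimage (pullback.lift (ψ ≫ Y) ψ hψ ≫ e.hom) := by
      apply Spec.map_injective
      rw [Spec.map_comp, Spec.map_preimage]
      exact hfac
    have h'' := ConcreteCategory.congr_hom h' d
    rw [CommRingCat.comp_apply, show (CommRingCat.ofHom (Ideal.Quotient.mk I)) d = 0 from
      Ideal.Quotient.eq_zero_iff_mem.2 hd, map_zero] at h''
    exact h''
  haveI : IsIso (Spec.map (CommRingCat.ofHom (Ideal.Quotient.mk I))) := by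
    have : IsIso (CommRingCat.ofHom (Ideal.Quotient.mk I)) := by
      rw [ConcreteCategory.isIso_iff_bijective]
      refine ⟨fun a b hab => ?_, Ideal.Quotient.mk_surjective⟩
      have := Ideal.Quotient.eq.1 hab
      rw [hI, Submodule.mem_bot] at this
      exact sub_eq_zero.1 this
    infer_instance
  haveI : IsIso (pullback.snd (pullback.diagonal f) m) := by rw [he]; infer_instance
  have hm : (inv (pullback.snd (pullback.diagonal f) m) ≫ pullback.fst (pullback.diagonal f) m) ≫
      pullback.diagonal f = m := by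
    rw [Category.assoc, pullback.condition, IsIso.inv_hom_id_assoc]
  have h1 := congrArg (· ≫ pullback.fst f f) hm
  have h2 := congrArg (· ≫ pullback.snd f f) hm
  simp only [Category.assoc, pullback.diagonal_fst, pullback.diagonal_snd, Category.comp_id, m, pullback.lift_fst,
    pullback.lift_snd] at h1 h2
  exact h1.symm.trans h2

/-- Morphisms out of the spectrum of a finite power agree when their components do. -/
theorem ext_of_components {X : Scheme.{u}} {C : Type u} [CommRing C] {J : Type u} [Finite J]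
    (Y Y' : Spec (CommRingCat.of (J → C)) ⟶ X)
    (h : ∀ i, Spec.map (CommRingCat.ofHom (Pi.evalRingHom (fun _ : J => C) i)) ≫ Y =
      Spec.map (CommRingCat.ofHom (Pi.evalRingHom (fun _ : J => C) i)) ≫ Y') : Y = Y' := by
  refine (cancel_epi (sigmaSpec (fun _ : J => CommRingCat.of C))).1 (Sigma.hom_ext _ _ fun i => ?_)
  erw [ι_sigmaSpec_assoc, ι_sigmaSpec_assoc]
  exact h i

section Smooth

variable {S : Scheme.{u}} {X Z : Over S} {G : Type v} [Group G] [Finite G]

/-- The fixed locus is smooth. -/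
theorem smooth_fixed [Smooth X.hom] [IsSeparated X.hom] (ρ : G →* Aut X) (hG : IsUnit (Nat.card G : Γ(S, ⊤)))
    (ι : Z ⟶ X) [IsClosedImmersion ι.left] [LocallyOfFinitePresentation Z.hom]
    (hι : ∀ g : G, ι ≫ (ρ g).hom = ι)
    (hZ : ∀ (T : Over S) (t : T ⟶ X), (∀ g : G, t ≫ (ρ g).hom = t) → ∃ l : T ⟶ Z, l ≫ ι = t) :
    Smooth Z.hom := by
  refine (HasRingHomProperty.iff_exists_appLE (P := @Smooth) (Q := RingHom.Smooth)
    (RingHom.Smooth.stableUnderComposition.stableUnderCompositionWithLocalizationAway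
      RingHom.Smooth.holdsForLocalizationAway).1).2 fun x => ?_
  obtain ⟨U, hU, hxU, -⟩ := exists_isAffineOpen_mem_and_subset (X := S) (x := Z.hom x) (U := ⊤) trivial
  obtain ⟨W, hW, hxW, hWU⟩ := exists_isAffineOpen_mem_and_subset (X := X.left) (x := ι.left x)
    (U := X.hom ⁻¹ᵁ U) (show X.hom (ι.left x) ∈ U by rw [← Scheme.Hom.comp_apply, Over.w ι]; exact hxU)
  have hV : IsAffineOpen (ι.left ⁻¹ᵁ W) := hW.preimage ι.left
  set V := ι.left ⁻¹ᵁ W
  have eV : V ≤ Z.hom ⁻¹ᵁ U := fun z hz => by
    show Z.hom z ∈ U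
    rw [← Over.w ι, Scheme.Hom.comp_apply]
    exact hWU hz
  refine ⟨⟨U, hU⟩, ⟨V, hV⟩, hxW, eV, ?_⟩
  have eW : W ≤ X.hom ⁻¹ᵁ U := hWU
  let φZ := Z.hom.appLE U V eV
  let φX := X.hom.appLE U W eW
  have hfp := HasRingHomProperty.appLE (P := @LocallyOfFinitePresentation) Z.hom ‹_› ⟨U, hU⟩ ⟨V, hV⟩ eV
  have hsm := HasRingHomProperty.appLE (P := @Smooth) X.hom ‹_› ⟨U, hU⟩ ⟨W, hW⟩ eW
  letI : Algebra Γ(S, U) Γ(Z.left, V) := φZ.hom.toAlgebra
  letI : Algebra Γ(S, U) Γ(X.left, W) := φX.hom.toAlgebra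
  haveI : Algebra.FinitePresentation Γ(S, U) Γ(Z.left, V) := hfp
  haveI : Algebra.Smooth Γ(S, U) Γ(X.left, W) := hsm
  haveI : IsOpenImmersion hU.fromSpec := IsAffineOpen.isOpenImmersion_fromSpec hU
  haveI : IsOpenImmersion hV.fromSpec := IsAffineOpen.isOpenImmersion_fromSpec hV
  haveI : IsOpenImmersion hW.fromSpec := IsAffineOpen.isOpenImmersion_fromSpec hW
  suffices hfs : Algebra.FormallySmooth Γ(S, U) Γ(Z.left, V) from
    (show Algebra.Smooth Γ(S, U) Γ(Z.left, V) from ⟨inferInstance, inferInstance⟩)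
  refine Algebra.FormallySmooth.of_comp_surjective fun C _ _ I hI L => ?_
  -- the data
  let J : Type u := ULift.{u} (Fin (Nat.card G))
  let e : J ≃ G := Equiv.ulift.trans (Finite.equivFin G).symm
  obtain ⟨w, hw⟩ : ∃ w : C, w * (Nat.card G : C) = 1 := by
    obtain ⟨w, hw⟩ := (hG.map ((algebraMap Γ(S, U) C).comp (S.presheaf.map (homOfLE (show U ≤ ⊤ from le_top)).op).hom)).exists_left_inv
    exact ⟨w, by rwa [map_natCast] at hw⟩
  replace hw : w * (Fintype.card J : C) = 1 := by
    rw [← Nat.card_eq_fintype_card, Nat.card_congr e]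
    exact hw
  let mkI : CommRingCat.of C ⟶ CommRingCat.of (C ⧸ I) := CommRingCat.ofHom (Ideal.Quotient.mk I)
  let p : Spec (CommRingCat.of C) ⟶ S := Spec.map (CommRingCat.ofHom (algebraMap Γ(S, U) C)) ≫ hU.fromSpec
  have hhom : Function.Surjective (PrimeSpectrum.comap (Ideal.Quotient.mk I)) := fun c => by
    refine (Set.ext_iff.1 (range_comap_of_surjective _ _ Ideal.Quotient.mk_surjective) c).2
      ((PrimeSpectrum.mem_zeroLocus _ _).2 fun a ha => ?_)
    rw [SetLike.mem_coe, Ideal.mk_ker] at ha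
    have : a ^ 2 ∈ (⊥ : Ideal C) := hI ▸ Ideal.pow_mem_pow ha 2
    exact c.isPrime.mem_of_pow_mem 2 ((Submodule.mem_bot _).1 this ▸ zero_mem _)
  -- points with values in an algebra
  have hpt : ∀ {D : Type u} [CommRing D] [Algebra Γ(S, U) D] (ψ : Γ(X.left, W) →ₐ[Γ(S, U)] D),
      (Spec.map (CommRingCat.ofHom ψ.toRingHom) ≫ hW.fromSpec) ≫ X.hom =
        Spec.map (CommRingCat.ofHom (algebraMap Γ(S, U) D)) ≫ hU.fromSpec := fun {D} _ _ ψ => by
    rw [Category.assoc, ← IsAffineOpen.SpecMap_appLE_fromSpec X.hom hU hW eW, ← Category.assoc, ← Spec.map_comp]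
    exact congrArg (fun r => Spec.map r ≫ hU.fromSpec) (CommRingCat.hom_ext ψ.comp_algebraMap)
  have hfactor : ∀ (q : Spec (CommRingCat.of C) ⟶ X.left), q ≫ X.hom = p →
      Set.range q ⊆ Set.range hW.fromSpec →
      ∃ ψ : Γ(X.left, W) →ₐ[Γ(S, U)] C, Spec.map (CommRingCat.ofHom ψ.toRingHom) ≫ hW.fromSpec = q := by
    intro q hq hr
    let l := IsOpenImmersion.lift hW.fromSpec q hr
    have hl : l ≫ hW.fromSpec = q := IsOpenImmersion.lift_fac _ _ _
    obtain ⟨ψ, hψ⟩ : ∃ ψ : Γ(X.left, W) ⟶ CommRingCat.of C, Spec.map ψ = l := Spec.map_surjective l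
    have halg : φX ≫ ψ = CommRingCat.ofHom (algebraMap Γ(S, U) C) := by
      apply Spec.map_injective
      rw [← cancel_mono hU.fromSpec, Spec.map_comp, Category.assoc,
        IsAffineOpen.SpecMap_appLE_fromSpec X.hom hU hW eW, ← Category.assoc, hψ, hl, hq]
    refine ⟨{ ψ.hom with commutes' := fun r => ConcreteCategory.congr_hom halg r }, ?_⟩
    show Spec.map ψ ≫ hW.fromSpec = q
    rw [hψ, hl]
  -- the first lift
  let r := ι.left.appLE W V le_rfl
  have hr : φX ≫ r = φZ := by
    simp only [φX, r, φZ, Scheme.Hom.appLE_comp_appLE, Over.w ι]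
  let rA : Γ(X.left, W) →ₐ[Γ(S, U)] Γ(Z.left, V) :=
    { r.hom with commutes' := fun a => ConcreteCategory.congr_hom hr a }
  obtain ⟨φ₁, hφ₁⟩ := Algebra.FormallySmooth.comp_surjective (R := Γ(S, U)) (A := Γ(X.left, W)) I hI (L.comp rA)
  let P₁ : Spec (CommRingCat.of C) ⟶ X.left := Spec.map (CommRingCat.ofHom φ₁.toRingHom) ≫ hW.fromSpec
  let τ₀ : Spec (CommRingCat.of (C ⧸ I)) ⟶ Z.left := Spec.map (CommRingCat.ofHom L.toRingHom) ≫ hV.fromSpec
  have hP₁ : Spec.map mkI ≫ P₁ = τ₀ ≫ ι.left := by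
    show _ = (Spec.map _ ≫ hV.fromSpec) ≫ ι.left
    rw [Category.assoc, ← IsAffineOpen.SpecMap_appLE_fromSpec ι.left hW hV le_rfl, ← Category.assoc,
      ← Category.assoc, ← Spec.map_comp, ← Spec.map_comp]
    exact congrArg (fun s => Spec.map s ≫ hW.fromSpec) (CommRingCat.hom_ext (congrArg AlgHom.toRingHom hφ₁))
  let P : G → (Spec (CommRingCat.of C) ⟶ X.left) := fun g => P₁ ≫ (ρ g).hom.left
  have hPI : ∀ g, Spec.map mkI ≫ P g = Spec.map mkI ≫ P₁ := fun g => by
    show _ ≫ P₁ ≫ _ = _
    rw [reassoc_of% hP₁, hP₁, ← Over.comp_left, hι]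
  have hcomp : ∀ g, ∃ ψ : Γ(X.left, W) →ₐ[Γ(S, U)] C, Spec.map (CommRingCat.ofHom ψ.toRingHom) ≫ hW.fromSpec = P g := by
    intro g
    refine hfactor (P g) (by show (P₁ ≫ _) ≫ _ = _; rw [Category.assoc, Over.w, hpt φ₁]) ?_
    rintro _ ⟨c, rfl⟩
    obtain ⟨c', rfl⟩ := hhom c
    refine ⟨(Spec.map mkI ≫ Spec.map (CommRingCat.ofHom φ₁.toRingHom)) c', ?_⟩
    show (Spec.map mkI ≫ P₁) c' = (Spec.map mkI ≫ P g) c'
    rw [hPI g]
  choose ψ hψ using hcomp
  have hcong : ∀ g a, Ideal.Quotient.mk I (ψ g a) = Ideal.Quotient.mk I (φ₁ a) := fun g a => by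
    have h : CommRingCat.ofHom (ψ g).toRingHom ≫ mkI = CommRingCat.ofHom φ₁.toRingHom ≫ mkI := by
      apply Spec.map_injective
      rw [← cancel_mono hW.fromSpec, Spec.map_comp, Spec.map_comp, Category.assoc, Category.assoc, hψ g, hPI g]
    exact ConcreteCategory.congr_hom h a
  -- the average
  let Φ : Γ(X.left, W) →ₐ[Γ(S, U)] congr Γ(S, U) I J :=
    (AlgHom.pi fun i => ψ (e i)).codRestrict _ fun a i j =>
      Ideal.Quotient.eq.1 ((hcong (e i) a).trans (hcong (e j) a).symm)
  let q := avg (R := Γ(S, U)) hI w hw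
  let Y : Spec (CommRingCat.of (congr Γ(S, U) I J)) ⟶ X.left :=
    Spec.map (CommRingCat.ofHom Φ.toRingHom) ≫ hW.fromSpec
  let z : Spec (CommRingCat.of C) ⟶ X.left := Spec.map (CommRingCat.ofHom q.toRingHom) ≫ Y
  have hzp : z ≫ X.hom = p := by
    have : z = Spec.map (CommRingCat.ofHom (q.comp Φ).toRingHom) ≫ hW.fromSpec := by
      show Spec.map _ ≫ Spec.map _ ≫ _ = _
      rw [← Category.assoc, ← Spec.map_comp]
      rfl
    rw [this, hpt (q.comp Φ)]
  have hYi : ∀ i, Spec.map (CommRingCat.ofHom (Pi.evalRingHom (fun _ => C) i)) ≫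
      Spec.map (CommRingCat.ofHom (congr Γ(S, U) I J).val.toRingHom) ≫ Y = P (e i) := fun i => by
    show _ ≫ _ ≫ Spec.map _ ≫ _ = _
    rw [← hψ, ← Category.assoc, ← Category.assoc, ← Spec.map_comp, ← Spec.map_comp]
    rfl
  have hfix : ∀ h : G, z ≫ (ρ h).hom.left = z := fun h => by
    let s : Equiv.Perm J := e.trans ((Equiv.mulLeft h).trans e.symm)
    let π := permute (R := Γ(S, U)) (I := I) s
    have hY : Y ≫ (ρ h).hom.left = Spec.map (CommRingCat.ofHom π.toRingHom) ≫ Y := by
      refine ext_of_injective X.hom (CommRingCat.ofHom (congr Γ(S, U) I J).val.toRingHom)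
        Subtype.val_injective _ _ ?_ (ext_of_components _ _ fun i => ?_)
      · rw [Category.assoc Y, Over.w, Category.assoc (Spec.map _) Y, show Y ≫ X.hom = _ from hpt Φ, ← Category.assoc, ← Spec.map_comp]
        exact congrArg (fun r => Spec.map r ≫ hU.fromSpec) (CommRingCat.hom_ext π.comp_algebraMap.symm)
      · rw [reassoc_of% hYi i]
        have h1 : Spec.map (CommRingCat.ofHom (Pi.evalRingHom (fun _ => C) i)) ≫
            Spec.map (CommRingCat.ofHom (congr Γ(S, U) I J).val.toRingHom) ≫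
              Spec.map (CommRingCat.ofHom π.toRingHom) ≫ Y = P (e (s i)) := by
          rw [← hYi (s i)]
          simp only [← Category.assoc, ← Spec.map_comp]
          rfl
        rw [h1]
        have h2 : e (s i) = h * e i := e.apply_symm_apply _
        show (P₁ ≫ (ρ (e i)).hom.left) ≫ (ρ h).hom.left = P₁ ≫ (ρ (e (s i))).hom.left
        rw [h2, map_mul, Category.assoc, ← Over.comp_left]
        rfl
    show (Spec.map _ ≫ Y) ≫ _ = _
    rw [Category.assoc, hY, ← Category.assoc, ← Spec.map_comp]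
    exact congrArg (fun r => Spec.map r ≫ Y) (CommRingCat.hom_ext (congrArg AlgHom.toRingHom (avg_permute hI w hw s)))
  let T : Over S := Over.mk p
  let t : T ⟶ X := Over.homMk z hzp
  obtain ⟨l, hl⟩ := hZ T t fun g => Over.OverMorphism.ext (hfix g)
  have hl' : l.left ≫ ι.left = z := congrArg (fun φ : T ⟶ X => φ.left) hl
  have hzI : Spec.map mkI ≫ z = Spec.map mkI ≫ P₁ := by
    show _ ≫ Spec.map _ ≫ Spec.map _ ≫ _ = _ ≫ Spec.map _ ≫ _
    simp only [← Category.assoc, ← Spec.map_comp]
    refine congrArg (fun r => Spec.map r ≫ hW.fromSpec) (CommRingCat.hom_ext (RingHom.ext fun a => ?_))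
    refine Eq.trans ?_ (hcong (e (e.symm 1)) a)
    exact Ideal.Quotient.eq.2 (sum_sub_mem w hw (Φ a) (e.symm 1))
  have hres : Spec.map mkI ≫ l.left = τ₀ := by
    rw [← cancel_mono ι.left, Category.assoc, hl', hzI, hP₁]
  have hrange : Set.range l.left ⊆ Set.range hV.fromSpec := by
    rintro _ ⟨c, rfl⟩
    obtain ⟨c', rfl⟩ := hhom c
    refine ⟨Spec.map (CommRingCat.ofHom L.toRingHom) c', ?_⟩
    show τ₀ c' = (Spec.map mkI ≫ l.left) c'
    rw [hres]
  let m := IsOpenImmersion.lift hV.fromSpec l.left hrange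
  have hm : m ≫ hV.fromSpec = l.left := IsOpenImmersion.lift_fac _ _ _
  obtain ⟨χ, hχ⟩ : ∃ χ : Γ(Z.left, V) ⟶ CommRingCat.of C, Spec.map χ = m := Spec.map_surjective m
  have halg : φZ ≫ χ = CommRingCat.ofHom (algebraMap Γ(S, U) C) := by
    apply Spec.map_injective
    rw [← cancel_mono hU.fromSpec, Spec.map_comp, Category.assoc,
      IsAffineOpen.SpecMap_appLE_fromSpec Z.hom hU hV eV, ← Category.assoc, hχ, hm]
    exact Over.w l
  refine ⟨{ χ.hom with commutes' := fun a => ConcreteCategory.congr_hom halg a }, AlgHom.ext fun b => ?_⟩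
  have h3 : χ ≫ mkI = CommRingCat.ofHom L.toRingHom := by
    apply Spec.map_injective
    rw [← cancel_mono hV.fromSpec, Spec.map_comp, Category.assoc, hχ, hm, hres]
  exact ConcreteCategory.congr_hom h3 b

end Smooth

end FinFixLib

end
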